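import Mathlib
import Groth.Agent.DvrDom.KrullAkizuki

/-!
# Semi-local Noetherian domains of dimension one inside their fraction field

The integral closure is a semi-local Dedekind domain (Krull–Akizuki); elements which are small at
all its primes have powers in the ring itself.
-/

set_option autoImplicit false

universe u v

open IsDedekindDomain
open scoped WithZero

namespace Groth.Agent.GlueSL

section Closure

theorem isField_of_isMaximal_bot {D : Type u} [CommRing D] [Nontrivial D] (h : (⊥ : Ideal D).IsMaximal) :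
    IsField D :=
  Ring.isField_iff_isSimpleOrder_ideal.mpr
    { eq_bot_or_eq_top := fun I => by
        by_cases hI : I = ⊤
        · exact Or.inr hI
        · exact Or.inl (h.eq_of_le hI bot_le).symm }

variable (B : Type u) [CommRing B] [IsDomain B] [IsNoetherianRing B] [Ring.KrullDimLE 1 B]
  (K : Type u) [Field K] [Algebra B K] [IsFractionRing B K]

theorem isDedekindDomain_integralClosure : IsDedekindDomain (integralClosure B K) := by
  have : IsFractionRing (integralClosure B K) K :=
    integralClosure.isFractionRing_of_finite_extension K K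
  refine (isDedekindDomain_iff (integralClosure B K) K).mpr
    ⟨inferInstance, DvrDom.isNoetherianRing_subalgebra (integralClosure B K), ⟨fun {p} hp hpp => ?_⟩,
      fun {x} hx => ⟨⟨x, isIntegral_trans _ hx⟩, rfl⟩⟩
  have : (p.comap (algebraMap B (integralClosure B K))).IsPrime := Ideal.comap_isPrime _ _
  exact Ideal.isMaximal_of_isIntegral_of_isMaximal_comap p
    (Ideal.IsPrime.isMaximal_of_ne_bot this (fun h => hp (Ideal.eq_bot_of_comap_eq_bot h)))

theorem finite_maximalSpectrum_of_mem {D : Type u} [CommRing D] [IsDomain D] [IsNoetherianRing D]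
    [Ring.DimensionLEOne D] {c : D} (hc : c ≠ 0) (h : ∀ m : Ideal D, m.IsMaximal → c ∈ m) :
    Finite (MaximalSpectrum D) := by
  have hfin := Ideal.finite_minimalPrimes_of_isNoetherianRing D (Ideal.span {c})
  have hmin : ∀ m : MaximalSpectrum D, m.asIdeal ∈ (Ideal.span {c}).minimalPrimes := fun m =>
    ⟨⟨m.isMaximal.isPrime, (Ideal.span_singleton_le_iff_mem _).mpr (h _ m.isMaximal)⟩, fun q hq hqm =>
      ((Ring.DimensionLEOne.maximalOfPrime (fun hq0 => hc (by
        have := hq.2 (Ideal.mem_span_singleton_self c)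
        rw [hq0, Submodule.mem_bot] at this
        exact this)) hq.1).eq_of_le m.isMaximal.ne_top hqm).ge⟩
  have := hfin.to_subtype
  exact Finite.of_injective (fun m => (⟨m.asIdeal, hmin m⟩ : ↥(Ideal.span {c}).minimalPrimes))
    fun a b h => MaximalSpectrum.ext (congrArg Subtype.val h)

variable {B}

theorem exists_mem_jacobson (hB : ¬ IsField B) [Finite (MaximalSpectrum B)] :
    ∃ c : B, c ≠ 0 ∧ c ∈ (⊥ : Ideal B).jacobson := by
  classical
  have := Fintype.ofFinite (MaximalSpectrum B)
  have hne : ∀ m : MaximalSpectrum B, ∃ x ∈ m.asIdeal, x ≠ 0 := fun m => by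
    exact Submodule.exists_mem_ne_zero_of_ne_bot fun h => hB (isField_of_isMaximal_bot (h ▸ m.isMaximal))
  choose x hx hx0 using hne
  refine ⟨∏ m, x m, Finset.prod_ne_zero_iff.mpr fun m _ => hx0 m, Ideal.mem_sInf.mpr fun {J} hJ => ?_⟩
  exact Ideal.prod_mem (I := J) (Finset.mem_univ (⟨J, hJ.2⟩ : MaximalSpectrum B)) (hx ⟨J, hJ.2⟩) 

variable {K}

theorem mem_jacobson_map {c : B} (hc : c ∈ (⊥ : Ideal B).jacobson) {m : Ideal (integralClosure B K)}
    (hm : m.IsMaximal) : algebraMap B (integralClosure B K) c ∈ m :=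
  Ideal.mem_sInf.mp hc ⟨bot_le, Ideal.isMaximal_comap_of_isIntegral_of_isMaximal m⟩

variable (B K)

theorem finite_maximalSpectrum_integralClosure (hB : ¬ IsField B) [Finite (MaximalSpectrum B)] :
    Finite (MaximalSpectrum (integralClosure B K)) := by
  obtain ⟨c, hc0, hc⟩ := exists_mem_jacobson hB
  have := isDedekindDomain_integralClosure B K
  refine finite_maximalSpectrum_of_mem (c := algebraMap B (integralClosure B K) c) (fun h => hc0 ?_)
    (fun m hm => mem_jacobson_map hc hm)
  exact IsFractionRing.injective B K (by simpa using congrArg Subtype.val h)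

variable {B K}

/-- an element in all maximal ideals of the integral closure has powers pushing everything into `B` -/
theorem exists_pow_mul_mem (x : integralClosure B K)
    (hx : ∀ m : Ideal (integralClosure B K), m.IsMaximal → x ∈ m) (y : integralClosure B K) :
    ∃ n₀ : ℕ, ∀ n ≥ n₀, (x : K) ^ n * y ∈ (algebraMap B K).range := by
  classical
  let D : Subalgebra B K := Algebra.adjoin B ({(x : K), (y : K)} : Set K)
  have hxD : (x : K) ∈ D := Algebra.subset_adjoin (by simp)
  have hyD : (y : K) ∈ D := Algebra.subset_adjoin (by simp)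
  have hle : D ≤ integralClosure B K := Algebra.adjoin_le (by
    rintro z (rfl | rfl)
    exacts [x.2, y.2])
  have hfg : (Subalgebra.toSubmodule D).FG := fg_adjoin_of_finite (Set.toFinite _) (by
    rintro z (rfl | rfl)
    exacts [x.2, y.2])
  obtain ⟨s, hs⟩ := hfg
  obtain ⟨⟨c, hc⟩, hcs⟩ := IsLocalization.exist_integer_multiples_of_finset (nonZeroDivisors B) s
  have hcD : ∀ z ∈ D, c • z ∈ (algebraMap B K).range := fun z hz => by
    rw [← Subalgebra.mem_toSubmodule, ← hs] at hz
    induction hz using Submodule.span_induction with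
    | mem w hw => exact hcs w hw
    | zero => rw [smul_zero]; exact zero_mem _
    | add a b _ _ ha hb => rw [smul_add]; exact add_mem ha hb
    | smul r a _ ha =>
      rw [smul_comm, Algebra.smul_def r]
      exact mul_mem ⟨r, rfl⟩ ha
  have hint : Algebra.IsIntegral B D := ⟨fun z => (isIntegral_algHom_iff D.val Subtype.val_injective).mp (hle z.2)⟩
  let := (Subalgebra.inclusion hle).toRingHom.toAlgebra
  have : IsScalarTower B D (integralClosure B K) := IsScalarTower.of_algebraMap_eq fun b => rfl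
  have hint' : Algebra.IsIntegral D (integralClosure B K) := Algebra.IsIntegral.tower_top B
  have hrad : (⟨x, hxD⟩ : D) ∈ (Ideal.span {algebraMap B D c}).radical := by
    rw [Ideal.radical_eq_sInf, Ideal.mem_sInf]
    rintro q ⟨hq, hqp⟩
    have hqm : q.IsMaximal := by
      have : (q.comap (algebraMap B D)).IsPrime := Ideal.comap_isPrime _ _
      refine Ideal.isMaximal_of_isIntegral_of_isMaximal_comap q
        (Ideal.IsPrime.isMaximal_of_ne_bot this fun h => ?_)
      have hc' : c ∈ q.comap (algebraMap B D) := hq (Ideal.mem_span_singleton_self _)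
      rw [h, Submodule.mem_bot] at hc'
      exact nonZeroDivisors.ne_zero hc hc'
    obtain ⟨m, hm, hmq⟩ := Ideal.exists_ideal_over_maximal_of_isIntegral (S := integralClosure B K) q
      (by
        intro a ha
        have ha' : (a : K) = 0 := congrArg Subtype.val (RingHom.mem_ker.mp ha)
        rw [show a = 0 from Subtype.ext ha']
        exact zero_mem _)
    rw [← hmq]
    exact hx m hm
  obtain ⟨n, hn⟩ := hrad
  obtain ⟨z, hz⟩ := Ideal.mem_span_singleton'.mp hn
  refine ⟨n, fun n' hn' => ?_⟩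
  obtain ⟨j, rfl⟩ := Nat.exists_eq_add_of_le hn'
  have h2 : (x : K) ^ (n + j) * y = c • ((z : K) * ((x : K) ^ j * y)) := by
    have h1 := congrArg Subtype.val hz
    rw [Subalgebra.coe_mul, Subalgebra.coe_pow, Subalgebra.coe_algebraMap] at h1
    rw [pow_add, ← h1, Algebra.smul_def]
    ring
  rw [h2]
  exact hcD _ (D.mul_mem z.2 (D.mul_mem (D.pow_mem hxD j) hyD))

theorem exists_pow_mem_jacobson (x : integralClosure B K)
    (hx : ∀ m : Ideal (integralClosure B K), m.IsMaximal → x ∈ m) :
    ∃ n₀ : ℕ, ∀ n ≥ n₀, ∃ b : B, algebraMap B K b = (x : K) ^ n ∧ b ∈ (⊥ : Ideal B).jacobson := by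
  obtain ⟨n₀, hn₀⟩ := exists_pow_mul_mem x hx 1
  refine ⟨n₀ + 1, fun n hn => ?_⟩
  obtain ⟨b, hb⟩ := hn₀ n (by omega)
  rw [OneMemClass.coe_one, mul_one] at hb
  refine ⟨b, hb, Ideal.mem_sInf.mpr fun {M} hM => ?_⟩
  have : M.IsMaximal := hM.2
  obtain ⟨m, hm, hmM⟩ := Ideal.exists_ideal_over_maximal_of_isIntegral (S := integralClosure B K) M
    (by
      intro a ha
      rw [show a = 0 from IsFractionRing.injective B K
        ((congrArg Subtype.val (RingHom.mem_ker.mp ha)).trans (map_zero _).symm)]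
      exact zero_mem _)
  rw [← hmM, Ideal.mem_comap, show algebraMap B (integralClosure B K) b = x ^ n from Subtype.ext hb]
  exact Ideal.pow_mem_of_mem m (hx m hm) n (by omega)

theorem exists_pow_mul_mem_range {c : B} (hc0 : c ≠ 0) (hc : c ∈ (⊥ : Ideal B).jacobson) (x : K) :
    ∃ n₀ : ℕ, ∀ n ≥ n₀, algebraMap B K c ^ n * x ∈ (algebraMap B K).range := by
  obtain ⟨p, q, hq, rfl⟩ := IsFractionRing.div_surjective (A := B) x
  have hq0 : q ≠ 0 := nonZeroDivisors.ne_zero hq
  have hrad : c ∈ (Ideal.span {q}).radical := by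
    rw [Ideal.radical_eq_sInf, Ideal.mem_sInf]
    rintro P ⟨hP, hPp⟩
    refine Ideal.mem_sInf.mp hc ⟨bot_le, Ideal.IsPrime.isMaximal_of_ne_bot hPp fun h => hq0 ?_⟩
    have := hP (Ideal.mem_span_singleton_self q)
    rwa [h, Submodule.mem_bot] at this
  obtain ⟨n, hn⟩ := hrad
  obtain ⟨z, hz⟩ := Ideal.mem_span_singleton'.mp hn
  refine ⟨n, fun n' hn' => ?_⟩
  obtain ⟨j, rfl⟩ := Nat.exists_eq_add_of_le hn'
  refine ⟨c ^ j * z * p, ?_⟩
  have hqK : algebraMap B K q ≠ 0 := fun h => hq0 (IsFractionRing.injective B K (h.trans (map_zero _).symm))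
  rw [pow_add, ← map_pow _ c n, ← hz, map_mul, map_mul, map_mul, map_pow]
  field_simp

end Closure

section Small

variable {K : Type u} [Field K]

theorem exists_lt_pow {a : ℤᵐ⁰} (ha : 1 < a) (g : ℤᵐ⁰) : ∃ N₀ : ℕ, ∀ N ≥ N₀, g < a ^ N := by
  obtain ⟨n, hn⟩ := MulArchimedean.arch g ha
  refine ⟨n + 1, fun N hN => lt_of_le_of_lt hn ?_⟩
  exact pow_lt_pow_right₀ ha (by omega)

/-- one element of `A` which is large for finitely many valuations -/
theorem exists_large {ι : Type*} (A : Subring K) (v : ι → Valuation K ℤᵐ⁰)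
    (hA : ∀ i, ∃ a ∈ A, 1 < v i a) (s : Finset ι) : ∃ a ∈ A, ∀ i ∈ s, 1 < v i a := by
  classical
  induction s using Finset.induction_on with
  | empty => exact ⟨0, zero_mem _, by simp⟩
  | insert j t hj ih =>
    obtain ⟨a, haA, ha⟩ := ih
    obtain ⟨b, hbA, hb⟩ := hA j
    by_cases hja : 1 < v j a
    · refine ⟨a, haA, fun i hi => ?_⟩
      rcases Finset.mem_insert.mp hi with rfl | hi
      exacts [hja, ha i hi]
    have hN : ∀ i, ∃ N₀ : ℕ, ∀ N ≥ N₀, 1 < v i b → v i a < v i b ^ N := fun i => by
      by_cases h : 1 < v i b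
      · obtain ⟨N₀, h₀⟩ := exists_lt_pow h (v i a)
        exact ⟨N₀, fun N hN _ => h₀ N hN⟩
      · exact ⟨0, fun N _ h' => absurd h' h⟩
    choose N₀ hN₀ using hN
    let N := (insert j t).sup N₀ + 1
    refine ⟨a + b ^ N, add_mem haA (pow_mem hbA N), fun i hi => ?_⟩
    have hle : N₀ i ≤ N := le_trans (Finset.le_sup hi) (Nat.le_succ _)
    by_cases hib : 1 < v i b
    · have h1 := hN₀ i N hle hib
      rw [← map_pow] at h1
      rw [(v i).map_add_eq_of_lt_right h1, map_pow]
      exact one_lt_pow₀ hib (by omega)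
    · rcases Finset.mem_insert.mp hi with rfl | hi'
      · exact absurd hb hib
      · have h1 : v i (b ^ N) < v i a := by
          rw [map_pow]
          exact lt_of_le_of_lt (pow_le_one' (not_lt.mp hib) N) (ha i hi')
        rw [(v i).map_add_eq_of_lt_left h1]
        exact ha i hi'

/-- A unit-like element `1 + aᴺ y` of `A` whose inverse is small in each `B i`. -/
theorem exists_inverse_small {r : ℕ} (A : Subring K) (B : Fin r → Subring K) [∀ i, IsNoetherianRing (B i)]
    [∀ i, IsFractionRing (B i) K] (hdim : ∀ i, ringKrullDim (B i) = 1)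
    (hsl : ∀ i, Finite (MaximalSpectrum (B i))) (hgen : ∀ i, A ⊔ B i = ⊤) {y : A} (hy : y ≠ 0) :
    ∃ (a : A) (n₀ : ℕ), (1 : K) + a * y ≠ 0 ∧ ∀ n ≥ n₀, ∀ i, ∃ b : B i,
      (b : K) = (((1 : K) + a * y) ^ n)⁻¹ ∧ b ∈ (⊥ : Ideal (B i)).jacobson := by
  classical
  have hK1 : ∀ i, Ring.KrullDimLE 1 (B i) := fun i => Ring.krullDimLE_iff.mpr (hdim i).le
  have hnf : ∀ i, ¬ IsField (B i) := fun i h => by
    have := hdim i
    rw [ringKrullDim_eq_zero_of_isField h] at this
    exact zero_ne_one this
  have hD : ∀ i, IsDedekindDomain (integralClosure (B i) K) := fun i => isDedekindDomain_integralClosure _ K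
  have hF : ∀ i, IsFractionRing (integralClosure (B i) K) K := fun i =>
    integralClosure.isFractionRing_of_finite_extension K K
  have hfin : ∀ i, Finite (HeightOneSpectrum (integralClosure (B i) K)) := fun i => by
    have := finite_maximalSpectrum_integralClosure (B i) K (hnf i)
    refine Finite.of_injective (fun w : HeightOneSpectrum (integralClosure (B i) K) =>
      (⟨w.asIdeal, w.isPrime.isMaximal w.ne_bot⟩ : MaximalSpectrum (integralClosure (B i) K))) ?_
    exact fun a b h => HeightOneSpectrum.ext (congrArg MaximalSpectrum.asIdeal h)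
  let ι := Σ i, HeightOneSpectrum (integralClosure (B i) K)
  have : ∀ i, Fintype (HeightOneSpectrum (integralClosure (B i) K)) := fun i => Fintype.ofFinite _
  let v : ι → Valuation K ℤᵐ⁰ := fun w => w.2.valuation K
  have hA : ∀ w : ι, ∃ a ∈ A, 1 < v w a := by
    rintro ⟨i, w⟩
    by_contra hno
    push Not at hno
    have hle : A ⊔ B i ≤ (w.valuation K).valuationSubring.toSubring :=
      sup_le (fun a ha => hno a ha) fun b hb =>
        w.valuation_le_one (K := K) (algebraMap (B i) (integralClosure (B i) K) ⟨b, hb⟩)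
    obtain ⟨z, hz, hz0⟩ := Submodule.exists_mem_ne_zero_of_ne_bot w.ne_bot
    have h1 : w.valuation K (algebraMap _ K z) < 1 := (w.valuation_lt_one_iff_mem z).mpr hz
    have h0 : w.valuation K (algebraMap _ K z) ≠ 0 := (Valuation.ne_zero_iff _).mpr fun h =>
      hz0 (IsFractionRing.injective _ K (h.trans (map_zero _).symm))
    have h2 : w.valuation K (algebraMap _ K z)⁻¹ ≤ 1 := hle (hgen i ▸ Subring.mem_top _)
    rw [map_inv₀] at h2
    exact absurd h2 (not_le.mpr ((one_lt_inv₀ (zero_lt_iff.mpr h0)).mpr h1))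
  obtain ⟨a, haA, ha⟩ := exists_large A v hA Finset.univ
  have hN : ∀ w : ι, ∃ N₀ : ℕ, ∀ N ≥ N₀, (v w (y : K))⁻¹ < v w a ^ N := fun w =>
    exists_lt_pow (ha w (Finset.mem_univ w)) _
  choose N₀ hN₀ using hN
  let N := Finset.univ.sup N₀
  have hbig : ∀ w : ι, 1 < v w (1 + a ^ N * y) := fun w => by
    have h1 := hN₀ w N (Finset.le_sup (Finset.mem_univ w))
    have h0 : v w (y : K) ≠ 0 := (Valuation.ne_zero_iff _).mpr fun h => hy (Subtype.ext h)
    have h2 : 1 < v w (a ^ N * y) := by
      rw [map_mul, map_pow]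
      exact (inv_lt_iff_one_lt_mul₀ (zero_lt_iff.mpr h0)).mp h1
    rw [(v w).map_add_eq_of_lt_right (by rw [map_one]; exact h2)]
    exact h2
  have hne : (1 : K) + a ^ N * y ≠ 0 ∨ r = 0 := by
    rcases Nat.eq_zero_or_pos r with h | h
    · exact Or.inr h
    · left
      intro h0
      obtain ⟨m, hm⟩ := Ideal.exists_maximal (integralClosure (B ⟨0, h⟩) K)
      have hm0 : m ≠ ⊥ := fun hm0 => by
        apply hnf ⟨0, h⟩
        refine isField_of_isIntegral_of_isField (S := integralClosure (B ⟨0, h⟩) K)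
          (FaithfulSMul.algebraMap_injective _ _) ?_
        exact isField_of_isMaximal_bot (hm0 ▸ hm)
      have := hbig ⟨⟨0, h⟩, ⟨m, hm.isPrime, hm0⟩⟩
      rw [h0, map_zero] at this
      exact absurd this (not_lt.mpr zero_le)
  rcases hne with hne | rfl
  swap
  · exact ⟨0, 0, by simp, fun n _ i => i.elim0⟩
  have hx : ∀ i, ∃ x : integralClosure (B i) K, (x : K) = ((1 : K) + a ^ N * y)⁻¹ ∧
      ∀ m : Ideal (integralClosure (B i) K), m.IsMaximal → x ∈ m := fun i => by
    obtain ⟨x, hx⟩ := HeightOneSpectrum.mem_integers_of_valuation_le_one (R := integralClosure (B i) K)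
      K ((1 : K) + a ^ N * y)⁻¹ fun w => by
        rw [map_inv₀]
        exact inv_le_one_of_one_le₀ (hbig ⟨i, w⟩).le
    refine ⟨x, hx, fun m hm => ?_⟩
    by_cases hm0 : m = ⊥
    · exfalso
      apply hnf i
      refine isField_of_isIntegral_of_isField (S := integralClosure (B i) K)
        (FaithfulSMul.algebraMap_injective _ _) ?_
      exact isField_of_isMaximal_bot (hm0 ▸ hm)
    let w : HeightOneSpectrum (integralClosure (B i) K) := ⟨m, hm.isPrime, hm0⟩
    refine (w.valuation_lt_one_iff_mem (K := K) x).mp ?_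
    show w.valuation K (algebraMap (integralClosure (B i) K) K x) < 1
    rw [hx, map_inv₀]
    exact inv_lt_one_of_one_lt₀ (hbig ⟨i, w⟩)
  choose x hx hxm using hx
  choose n₀ hn₀ using fun i => exists_pow_mem_jacobson (x i) (hxm i)
  refine ⟨⟨a ^ N, pow_mem haA N⟩, Finset.univ.sup n₀, hne, fun n hn i => ?_⟩
  obtain ⟨b, hb, hbJ⟩ := hn₀ i n ((Finset.le_sup (Finset.mem_univ i)).trans hn)
  refine ⟨b, ?_, hbJ⟩
  rw [← inv_pow, ← hx i]
  exact hb

end Small

end Groth.Agent.GlueSL
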