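import Mathlib

/-!
# One-dimensional Noetherian local rings and their localisations at the minimal primes
-/

set_option autoImplicit false

universe u

namespace Groth.Agent.GlueSL

variable {A : Type u} [CommRing A] [IsLocalRing A]

theorem isMaximal_or_minimal (hdim : ringKrullDim A ≤ 1) (P : Ideal A) [hP : P.IsPrime] :
    P = IsLocalRing.maximalIdeal A ∨ P ∈ minimalPrimes A := by
  by_contra h
  push Not at h
  obtain ⟨Q, hQ, hQP⟩ := Ideal.exists_minimalPrimes_le (bot_le : (⊥ : Ideal A) ≤ P)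
  have h1 : (⟨Q, hQ.1.1⟩ : PrimeSpectrum A) < ⟨P, hP⟩ := lt_of_le_of_ne hQP fun he => by
    have hQP' : Q = P := congrArg PrimeSpectrum.asIdeal he
    exact h.2 (hQP' ▸ hQ)
  have h2 : (⟨P, hP⟩ : PrimeSpectrum A) < ⟨IsLocalRing.maximalIdeal A, inferInstance⟩ :=
    lt_of_le_of_ne (IsLocalRing.le_maximalIdeal hP.ne_top) fun he =>
      h.1 (congrArg PrimeSpectrum.asIdeal he)
  let l : LTSeries (PrimeSpectrum A) := ((RelSeries.singleton _ ⟨Q, hQ.1.1⟩).snoc ⟨P, hP⟩
    (by simpa using h1)).snoc ⟨IsLocalRing.maximalIdeal A, inferInstance⟩ (by simpa using h2)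
  have h3 : (2 : WithBot ℕ∞) ≤ ringKrullDim A := by simpa [l, ringKrullDim] using Order.LTSeries.length_le_krullDim l
  exact absurd (h3.trans hdim) (by decide)

theorem le_radical_of_forall_minimal (hdim : ringKrullDim A ≤ 1) (J : Ideal A)
    (h : ∀ p ∈ minimalPrimes A, ¬ J ≤ p) : IsLocalRing.maximalIdeal A ≤ J.radical := by
  rw [Ideal.radical_eq_sInf, le_sInf_iff]
  rintro P ⟨hJP, hP⟩
  rcases isMaximal_or_minimal hdim P with rfl | hm
  · exact le_rfl
  · exact absurd hJP (h P hm)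

theorem mem_ker_pow (p : {p : PrimeSpectrum A // p.asIdeal ∈ minimalPrimes A}) {x : A}
    (hx : x ∈ p.1.asIdeal) : ∃ n : ℕ, algebraMap A (Localization.AtPrime p.1.asIdeal) (x ^ n) = 0 := by
  have h1 : algebraMap A (Localization.AtPrime p.1.asIdeal) x ∈ nilradical (Localization.AtPrime p.1.asIdeal) := by
    rw [nilradical_eq_sInf, Ideal.mem_sInf]
    intro Q hQ
    have : Q.IsPrime := hQ
    have hle : Q.comap (algebraMap A _) ≤ p.1.asIdeal := by
      intro y hy
      by_contra hyp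
      exact this.ne_top (Ideal.eq_top_of_isUnit_mem _ hy
        (IsLocalization.map_units (Localization.AtPrime p.1.asIdeal) (⟨y, hyp⟩ : p.1.asIdeal.primeCompl)))
    have heq : p.1.asIdeal ≤ Q.comap (algebraMap A _) :=
      p.2.2 ⟨Ideal.comap_isPrime _ _, bot_le⟩ hle
    exact heq hx
  obtain ⟨n, hn⟩ := h1
  exact ⟨n, by rw [map_pow]; exact hn⟩

variable [IsNoetherianRing A]

theorem exists_pow_eq (hdim : ringKrullDim A ≤ 1) (a₁ a₂ : A)
    (h₁ : a₁ ∈ IsLocalRing.maximalIdeal A) (h₂ : a₂ ∈ IsLocalRing.maximalIdeal A)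
    (heq : ∀ p : {p : PrimeSpectrum A // p.asIdeal ∈ minimalPrimes A},
      algebraMap A (Localization.AtPrime p.1.asIdeal) a₁ = algebraMap A (Localization.AtPrime p.1.asIdeal) a₂) :
    ∃ n : ℕ, 0 < n ∧ a₁ ^ n = a₂ ^ n := by
  let J : Ideal A := (⊥ : Submodule A A).colon {a₁ - a₂}
  have hJ : ∀ x, x ∈ J ↔ x * (a₁ - a₂) = 0 := fun x => by
    simp [J, Submodule.mem_colon_singleton]
  have hnot : ∀ p ∈ minimalPrimes A, ¬ J ≤ p := fun p hp hle => by
    have := hp.1.1
    obtain ⟨s, hs⟩ := (IsLocalization.eq_iff_exists p.primeCompl (Localization.AtPrime p)).mp (heq ⟨⟨p, hp.1.1⟩, hp⟩)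
    exact s.2 (hle ((hJ _).mpr (by rw [mul_sub, hs, sub_self])))
  obtain ⟨k, hk⟩ := Ideal.exists_pow_le_of_le_radical_of_fg (le_radical_of_forall_minimal hdim J hnot)
    (IsNoetherian.noetherian _)
  refine ⟨k + 1, Nat.succ_pos k, ?_⟩
  rw [← sub_eq_zero, ← geom_sum₂_mul a₁ a₂ (k + 1)]
  refine (hJ _).mp (hk ?_)
  refine Ideal.sum_mem _ fun i hi => ?_
  have hi' : i ≤ k := Nat.lt_succ_iff.mp (Finset.mem_range.mp hi)
  have : (IsLocalRing.maximalIdeal A) ^ k = IsLocalRing.maximalIdeal A ^ i * IsLocalRing.maximalIdeal A ^ (k - i) := by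
    rw [← pow_add]; congr 1; omega
  rw [this, show k + 1 - 1 - i = k - i by omega]
  exact Ideal.mul_mem_mul (Ideal.pow_mem_pow h₁ i) (Ideal.pow_mem_pow h₂ _)

/-- multiplying by a high power of `a ∈ 𝔪` lands in the image of `A` -/
theorem exists_pow_mul_mem_range' (hdim : ringKrullDim A ≤ 1) {a : A} (ha : a ∈ IsLocalRing.maximalIdeal A)
    (z : ∀ p : {p : PrimeSpectrum A // p.asIdeal ∈ minimalPrimes A}, Localization.AtPrime p.1.asIdeal) :
    ∃ l : ℕ, ∀ n ≥ l, algebraMap A _ (a ^ n) * z ∈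
      (algebraMap A (∀ p : {p : PrimeSpectrum A // p.asIdeal ∈ minimalPrimes A}, Localization.AtPrime p.1.asIdeal)).range := by
  classical
  have : Finite {p : PrimeSpectrum A // p.asIdeal ∈ minimalPrimes A} := by
    have := (minimalPrimes.finite_of_isNoetherianRing A).to_subtype
    exact Finite.of_injective (fun p => (⟨p.1.asIdeal, p.2⟩ : ↥(minimalPrimes A))) fun p q h =>
      Subtype.ext (PrimeSpectrum.ext (congrArg Subtype.val h))
  have := Fintype.ofFinite {p : PrimeSpectrum A // p.asIdeal ∈ minimalPrimes A}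
  have hz : ∀ p : {p : PrimeSpectrum A // p.asIdeal ∈ minimalPrimes A}, ∃ (x : A) (s : p.1.asIdeal.primeCompl),
      z p * algebraMap A _ (s : A) = algebraMap A _ x := fun p => by
    obtain ⟨⟨x, s⟩, h⟩ := IsLocalization.surj p.1.asIdeal.primeCompl (z p)
    exact ⟨x, s, h⟩
  choose x s hxs using hz
  let q : {p : PrimeSpectrum A // p.asIdeal ∈ minimalPrimes A} → Ideal A :=
    fun p => RingHom.ker (algebraMap A (Localization.AtPrime p.1.asIdeal))
  let J : Ideal A := ⨆ p, Ideal.span {(s p : A)} * (Finset.univ.erase p).inf q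
  have hnot : ∀ P ∈ minimalPrimes A, ¬ J ≤ P := by
    intro P hP hle
    let p : {p : PrimeSpectrum A // p.asIdeal ∈ minimalPrimes A} := ⟨⟨P, hP.1.1⟩, hP⟩
    have h1 : Ideal.span {(s p : A)} * (Finset.univ.erase p).inf q ≤ P := (le_iSup (fun p => Ideal.span {(s p : A)} * (Finset.univ.erase p).inf q) p).trans hle
    rcases hP.1.1.mul_le.mp h1 with h2 | h2
    · exact (s p).2 (h2 (Ideal.mem_span_singleton_self _))
    · obtain ⟨p', hp', hle'⟩ := (Ideal.IsPrime.inf_le' hP.1.1).mp h2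
      refine (Finset.ne_of_mem_erase hp') (Subtype.ext (PrimeSpectrum.ext ?_))
      have hsub : p'.1.asIdeal ≤ P := fun y hy => by
        obtain ⟨n, hn⟩ := mem_ker_pow p' hy
        exact hP.1.1.mem_of_pow_mem n (hle' hn)
      exact le_antisymm hsub (hP.2 ⟨p'.1.isPrime, bot_le⟩ hsub)
  obtain ⟨l, hl⟩ := le_radical_of_forall_minimal hdim J hnot ha
  refine ⟨l, fun n hn => ?_⟩
  have hn' : a ^ n ∈ J := Ideal.mem_of_dvd _ (pow_dvd_pow a hn) hl
  revert hn'
  generalize a ^ n = y₀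
  intro hn'
  induction hn' using Submodule.iSup_induction' with
  | mem p y hy =>
    obtain ⟨w, hw, rfl⟩ := Ideal.mem_span_singleton_mul.mp hy
    refine ⟨x p * w, funext fun p' => ?_⟩
    rw [Pi.mul_apply, Pi.algebraMap_apply, Pi.algebraMap_apply]
    by_cases h : p' = p
    · subst h
      rw [map_mul, map_mul, ← hxs p']
      ring
    · have hw0 : algebraMap A (Localization.AtPrime p'.1.asIdeal) w = 0 :=
        (Finset.inf_le (f := q) (Finset.mem_erase.mpr ⟨h, Finset.mem_univ _⟩) : _ ≤ q p') hw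
      rw [map_mul, map_mul, hw0, mul_zero, mul_zero, zero_mul]
  | zero => rw [map_zero, zero_mul]; exact zero_mem _
  | add y y' _ _ hy hy' => rw [map_add, add_mul]; exact add_mem hy hy'

theorem exists_pow_mem_range (hdim : ringKrullDim A ≤ 1) {a : A} (ha : a ∈ IsLocalRing.maximalIdeal A)
    (i : ∀ p : {p : PrimeSpectrum A // p.asIdeal ∈ minimalPrimes A}, Localization.AtPrime p.1.asIdeal)
    (hi : IsNilpotent i) :
    ∃ n : ℕ, 0 < n ∧ (i + algebraMap A (∀ p : {p : PrimeSpectrum A // p.asIdeal ∈ minimalPrimes A}, Localization.AtPrime p.1.asIdeal) a) ^ n ∈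
      (algebraMap A (∀ p : {p : PrimeSpectrum A // p.asIdeal ∈ minimalPrimes A}, Localization.AtPrime p.1.asIdeal)).range := by
  obtain ⟨e, he⟩ := hi
  choose l hl using fun j : ℕ => exists_pow_mul_mem_range' hdim ha (i ^ j)
  refine ⟨(Finset.range e).sup l + e + 1, Nat.succ_pos _, ?_⟩
  rw [add_pow]
  refine sum_mem fun j hj => ?_
  by_cases hje : e ≤ j
  · rw [pow_eq_zero_of_le hje he, zero_mul, zero_mul]
    exact zero_mem _
  · have hjl : l j ≤ (Finset.range e).sup l := Finset.le_sup (Finset.mem_range.mpr (not_le.mp hje))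
    refine mul_mem ?_ (natCast_mem _ _)
    rw [mul_comm, ← map_pow]
    exact hl j _ (by omega)

end Groth.Agent.GlueSL
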