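import Groth.Agent.GlueSL.Basic

/-!
# Gluing semi-local one-dimensional subrings of a field
-/

set_option autoImplicit false

universe u

open IsDedekindDomain AlgebraicGeometry CategoryTheory

namespace Groth.Agent.GlueSL

variable {K : Type u} [Field K]

theorem not_isField_of_dim_one {D : Type u} [CommRing D] (hdim : ringKrullDim D = 1) : ¬ IsField D :=
  fun h => by
    rw [ringKrullDim_eq_zero_of_isField h] at hdim
    exact zero_ne_one hdim

theorem exists_mem_jacobson' (A : Subring K) [IsNoetherianRing A] (hdim : ringKrullDim A = 1)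
    (hsl : Finite (MaximalSpectrum A)) : ∃ c : A, c ≠ 0 ∧ c ∈ (⊥ : Ideal A).jacobson := by
  have : Ring.KrullDimLE 1 A := Ring.krullDimLE_iff.mpr hdim.le
  exact exists_mem_jacobson (not_isField_of_dim_one hdim)

/-- an element of `A` and all `B i`, a unit of `A`, in the Jacobson radical of each `B i` -/
theorem exists_sep {r : ℕ} (A : Subring K) (B : Fin r → Subring K) [IsNoetherianRing A]
    (hdimA : ringKrullDim A = 1) (hslA : Finite (MaximalSpectrum A))
    [∀ i, IsNoetherianRing (B i)] [∀ i, IsFractionRing (B i) K] (hdim : ∀ i, ringKrullDim (B i) = 1)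
    (hsl : ∀ i, Finite (MaximalSpectrum (B i))) (hgen : ∀ i, A ⊔ B i = ⊤) :
    ∃ a : K, (∃ h : a ∈ A, IsUnit (⟨a, h⟩ : A)) ∧
      ∀ i, ∃ h : a ∈ B i, (⟨a, h⟩ : B i) ∈ (⊥ : Ideal (B i)).jacobson := by
  obtain ⟨y, hy, hyJ⟩ := exists_mem_jacobson' A hdimA hslA
  obtain ⟨a, n₀, hne, hn₀⟩ := exists_inverse_small A B hdim hsl hgen hy
  obtain ⟨u, hu⟩ : IsUnit ((1 : A) + a * y) := by
    have h := Ideal.mem_jacobson_bot.mp hyJ a
    rwa [mul_comm y, add_comm] at h
  have h1 : (((u⁻¹ : Aˣ) : A) : K) = ((1 : K) + a * y)⁻¹ := by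
    refine eq_inv_of_mul_eq_one_left ?_
    have := congrArg Subtype.val u.inv_mul
    rw [Subring.coe_mul, hu] at this
    simpa using this
  refine ⟨(((u⁻¹ ^ n₀ : Aˣ) : A) : K), ⟨SetLike.coe_mem _, (u⁻¹ ^ n₀).isUnit⟩, fun i => ?_⟩
  obtain ⟨b, hb, hbJ⟩ := hn₀ n₀ le_rfl i
  have h2 : (((u⁻¹ ^ n₀ : Aˣ) : A) : K) = b := by
    rw [hb, Units.val_pow_eq_pow_val, SubmonoidClass.coe_pow, h1, inv_pow]
  refine ⟨h2 ▸ b.2, ?_⟩
  convert hbJ using 1
  exact Subtype.ext h2

section Family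

variable {ι : Type} [Fintype ι] {A : ι → Subring K} {R : Subring K} (hR : ∀ i, R ≤ A i)
  (hmem : ∀ x : K, (∀ i, x ∈ A i) → x ∈ R)

/-- the data gluing the family -/
structure Sep (hR : ∀ i, R ≤ A i) where
  elt : ι → R
  isUnit : ∀ i, IsUnit (Subring.inclusion (hR i) (elt i))
  mem_jac : ∀ i j, j ≠ i → Subring.inclusion (hR j) (elt i) ∈ (⊥ : Ideal (A j)).jacobson

variable {hR} (S : Sep hR)
variable [∀ i, IsNoetherianRing (A i)] [∀ i, IsFractionRing (A i) K]

include S hmem in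
theorem Sep.exists_pow_mul_mem (hdim : ∀ i, ringKrullDim (A i) = 1) (i : ι) (x : K) (hx : x ∈ A i) :
    ∃ n : ℕ, (S.elt i : K) ^ n * x ∈ R := by
  classical
  have h : ∀ j, ∃ n₀ : ℕ, ∀ n ≥ n₀, (S.elt i : K) ^ n * x ∈ A j := fun j => by
    by_cases hj : j = i
    · subst hj
      exact ⟨0, fun n _ => mul_mem (pow_mem (hR j (S.elt j).2) n) hx⟩
    · have : Ring.KrullDimLE 1 (A j) := Ring.krullDimLE_iff.mpr (hdim j).le
      by_cases h0 : Subring.inclusion (hR j) (S.elt i) = 0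
      · refine ⟨1, fun n hn => ?_⟩
        rw [show (S.elt i : K) = 0 from congrArg Subtype.val h0, zero_pow (by omega), zero_mul]
        exact zero_mem _
      · obtain ⟨n₀, hn₀⟩ := exists_pow_mul_mem_range h0 (S.mem_jac i j hj) x
        refine ⟨n₀, fun n hn => ?_⟩
        obtain ⟨b, hb⟩ := hn₀ n hn
        have hb' : (b : K) = (S.elt i : K) ^ n * x := hb
        exact hb' ▸ b.2
  choose n₀ hn₀ using h
  exact ⟨Finset.univ.sup n₀, hmem _ fun j => hn₀ j _ (Finset.le_sup (Finset.mem_univ j))⟩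

include S hmem in
theorem Sep.isLocalization (hdim : ∀ i, ringKrullDim (A i) = 1) (i : ι) :
    @IsLocalization.Away R _ (S.elt i) (A i) _ (Subring.inclusion (hR i)).toAlgebra := by
  letI := (Subring.inclusion (hR i)).toAlgebra
  refine ⟨fun y => ?_, fun z => ?_, fun {a b} h => ⟨1, ?_⟩⟩
  · obtain ⟨n, hn⟩ := y.2
    simp only at hn
    show IsUnit (Subring.inclusion (hR i) (y : R))
    rw [← hn, map_pow]
    exact (S.isUnit i).pow n
  · obtain ⟨n, hn⟩ := S.exists_pow_mul_mem hmem hdim i z z.2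
    refine ⟨⟨⟨_, hn⟩, ⟨S.elt i ^ n, n, rfl⟩⟩, Subtype.ext ?_⟩
    show (z : K) * ((S.elt i ^ n : R) : K) = (S.elt i : K) ^ n * z
    rw [SubmonoidClass.coe_pow, mul_comm]
  · exact congrArg _ (show a = b from Subtype.ext (congrArg Subtype.val h :))

include S hmem in
theorem Sep.span_eq_top [Nonempty ι] : Ideal.span (Set.range S.elt) = ⊤ := by
  classical
  let s : R := ∑ i, S.elt i
  have hu : ∀ j, IsUnit (Subring.inclusion (hR j) s) := fun j => by
    rw [map_sum, ← Finset.add_sum_erase _ _ (Finset.mem_univ j)]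
    obtain ⟨u, hu⟩ := S.isUnit j
    have hJ : ∑ i ∈ Finset.univ.erase j, Subring.inclusion (hR j) (S.elt i) ∈ (⊥ : Ideal (A j)).jacobson :=
      Ideal.sum_mem _ fun i hi => S.mem_jac i j (Finset.ne_of_mem_erase hi).symm
    have h := Ideal.mem_jacobson_bot.mp hJ ((u⁻¹ : (A j)ˣ) : A j)
    rw [← hu]
    have := u.isUnit.mul h
    rwa [mul_add, mul_one, ← mul_assoc, mul_comm (u : A j), mul_assoc, Units.mul_inv, mul_one,
      add_comm] at this
  refine Ideal.eq_top_of_isUnit_mem _ (x := s) (Ideal.sum_mem _ fun i _ => Ideal.subset_span ⟨i, rfl⟩) ?_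
  obtain ⟨j₀⟩ := ‹Nonempty ι›
  obtain ⟨w, hw⟩ := hu j₀
  have hwK : ((w : A j₀) : K) = s := congrArg (fun z : A j₀ => (z : K)) hw
  have h0 : (s : K) ≠ 0 := by
    rw [← hwK]
    exact fun h => w.ne_zero (Subtype.ext h)
  refine IsUnit.of_mul_eq_one ⟨(s : K)⁻¹, hmem _ fun j => ?_⟩ (Subtype.ext (mul_inv_cancel₀ h0))
  obtain ⟨w', hw'⟩ := hu j
  have hw'K : ((w' : A j) : K) = s := congrArg (fun z : A j => (z : K)) hw'
  rw [show (s : K)⁻¹ = (((w'⁻¹ : (A j)ˣ) : A j) : K) from inv_eq_of_mul_eq_one_right (by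
    rw [← hw'K, ← Subring.coe_mul, Units.mul_inv, OneMemClass.coe_one])]
  exact SetLike.coe_mem _

include S hmem in
theorem Sep.isOpenImmersion (hdim : ∀ i, ringKrullDim (A i) = 1) (i : ι) :
    IsOpenImmersion (Spec.map (CommRingCat.ofHom (Subring.inclusion (hR i)))) := by
  let := (Subring.inclusion (hR i)).toAlgebra
  have := S.isLocalization hmem hdim i
  exact IsOpenImmersion.of_isLocalization (S := A i) (S.elt i)

include S hmem in
theorem Sep.range_eq (hdim : ∀ i, ringKrullDim (A i) = 1) (i : ι) :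
    Set.range (Spec.map (CommRingCat.ofHom (Subring.inclusion (hR i)))).base =
      (PrimeSpectrum.basicOpen (S.elt i) : Set (PrimeSpectrum R)) := by
  let := (Subring.inclusion (hR i)).toAlgebra
  have := S.isLocalization hmem hdim i
  exact PrimeSpectrum.localization_away_comap_range (A i) (S.elt i)

include S hmem in
theorem Sep.exists_notMem [Nonempty ι] (P : Ideal R) (hP : P ≠ ⊤) : ∃ i, S.elt i ∉ P := by
  by_contra h
  push Not at h
  refine hP (top_le_iff.mp ?_)
  rw [← S.span_eq_top hmem]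
  exact Ideal.span_le.mpr (Set.range_subset_iff.mpr h)

include S hmem in
theorem Sep.iUnion_range [Nonempty ι] (hdim : ∀ i, ringKrullDim (A i) = 1) :
    (⋃ i, Set.range (Spec.map (CommRingCat.ofHom (Subring.inclusion (hR i)))).base) = Set.univ := by
  refine Set.eq_univ_of_forall fun P => Set.mem_iUnion.mpr ?_
  obtain ⟨i, hi⟩ := S.exists_notMem hmem P.asIdeal P.isPrime.ne_top
  exact ⟨i, (Set.ext_iff.mp (S.range_eq hmem hdim i) P).mpr hi⟩

include S hmem in
theorem Sep.isNoetherianRing [Nonempty ι] (hdim : ∀ i, ringKrullDim (A i) = 1) : IsNoetherianRing R := by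
  classical
  refine isNoetherianRing_of_away (Finset.univ.image S.elt) ?_ fun s => ?_
  · rw [Finset.coe_image, Finset.coe_univ, Set.image_univ]
    exact S.span_eq_top hmem
  · obtain ⟨i, -, hi⟩ := Finset.mem_image.mp s.2
    let := (Subring.inclusion (hR i)).toAlgebra
    have := S.isLocalization hmem hdim i
    have e : Localization.Away (s : R) ≃+* A i := by
      rw [← hi]
      exact (IsLocalization.algEquiv (Submonoid.powers (S.elt i)) (Localization.Away (S.elt i)) (A i)).toRingEquiv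
    exact isNoetherianRing_of_ringEquiv (A i) e.symm

include S hmem in
theorem Sep.isFractionRing [Nonempty ι] (hdim : ∀ i, ringKrullDim (A i) = 1) : IsFractionRing R K := by
  classical
  obtain ⟨i⟩ := ‹Nonempty ι›
  refine IsFractionRing.of_field R K fun z => ?_
  obtain ⟨x, y, hy, rfl⟩ := IsFractionRing.div_surjective (A := A i) z
  obtain ⟨m, hm⟩ := S.exists_pow_mul_mem hmem hdim i x x.2
  obtain ⟨n, hn⟩ := S.exists_pow_mul_mem hmem hdim i y y.2
  refine ⟨⟨_, mul_mem (pow_mem (S.elt i).2 n) hm⟩, ⟨_, mul_mem (pow_mem (S.elt i).2 m) hn⟩, ?_⟩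
  show (x : K) / (y : K) = ((S.elt i : K) ^ n * ((S.elt i : K) ^ m * x)) / ((S.elt i : K) ^ m * ((S.elt i : K) ^ n * y))
  have ha : (S.elt i : K) ≠ 0 := fun h => (S.isUnit i).ne_zero (Subtype.ext h)
  field_simp

include S hmem in
theorem Sep.krullDimLE [Nonempty ι] (hdim : ∀ i, ringKrullDim (A i) = 1) : Ring.KrullDimLE 1 R := by
  refine Ring.krullDimLE_one_iff_of_noZeroDivisors.mpr fun P hP0 hP => ?_
  obtain ⟨Q, hQ, hPQ⟩ := P.exists_le_maximal hP.ne_top
  obtain ⟨j, hj⟩ := S.exists_notMem hmem Q hQ.ne_top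
  let := (Subring.inclusion (hR j)).toAlgebra
  have := S.isLocalization hmem hdim j
  have : Ring.KrullDimLE 1 (A j) := Ring.krullDimLE_iff.mpr (hdim j).le
  have hdis : ∀ I : Ideal R, I.IsPrime → I ≤ Q →
      Disjoint (Submonoid.powers (S.elt j) : Set R) (I : Set R) := fun I hI hIQ =>
    Set.disjoint_left.mpr fun x ⟨n, hn⟩ hxI => hj (hIQ (hI.mem_of_pow_mem n ((show S.elt j ^ n = x from hn).symm ▸ hxI)))
  have hP' := IsLocalization.isPrime_of_isPrime_disjoint (Submonoid.powers (S.elt j)) (A j) P hP (hdis P hP hPQ)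
  have hQ' := IsLocalization.isPrime_of_isPrime_disjoint (Submonoid.powers (S.elt j)) (A j) Q hQ.isPrime
    (hdis Q hQ.isPrime le_rfl)
  have hPc := IsLocalization.under_map_of_isPrime_disjoint (Submonoid.powers (S.elt j)) (A j) hP (hdis P hP hPQ)
  have hQc := IsLocalization.under_map_of_isPrime_disjoint (Submonoid.powers (S.elt j)) (A j) hQ.isPrime
    (hdis Q hQ.isPrime le_rfl)
  have hmax : (P.map (algebraMap R (A j))).IsMaximal := hP'.isMaximal_of_ne_bot fun h => hP0 (by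
    rw [← hPc, h, Ideal.under_def]
    exact Ideal.comap_bot_of_injective _ (Subring.inclusion_injective (hR j)))
  have heq := hmax.eq_of_le hQ'.ne_top (Ideal.map_mono hPQ)
  rw [← hPc, heq, hQc]
  exact hQ

include S hmem in
theorem Sep.ringKrullDim_eq [Nonempty ι] (hdim : ∀ i, ringKrullDim (A i) = 1) : ringKrullDim R = 1 := by
  have := S.krullDimLE hmem hdim
  refine le_antisymm (Ring.krullDimLE_iff.mp this) ?_
  have := S.isFractionRing hmem hdim
  by_contra h
  obtain ⟨i⟩ := ‹Nonempty ι›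
  have hF : IsField R := by
    by_contra hF
    obtain ⟨m, hm0, hm⟩ := Ring.not_isField_iff_exists_prime.mp hF
    exact h (Order.one_le_krullDim_iff.mpr ⟨⟨⊥, Ideal.isPrime_bot⟩, ⟨m, hm⟩, (show (⊥ : Ideal R) < m from bot_lt_iff_ne_bot.mpr hm0)⟩)
  apply not_isField_of_dim_one (hdim i)
  refine ⟨⟨0, 1, zero_ne_one⟩, mul_comm, fun {a} ha => ?_⟩
  obtain ⟨b, c, hc, hbc⟩ := IsFractionRing.div_surjective (A := R) (a : K)⁻¹
  obtain ⟨c', hc'⟩ := hF.mul_inv_cancel (nonZeroDivisors.ne_zero hc)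
  have hcK : ((c : R) : K) ≠ 0 := fun h => nonZeroDivisors.ne_zero hc (Subtype.ext h)
  have hinv : (a : K)⁻¹ = ((b * c' : R) : K) := by
    rw [← hbc, Subring.coe_mul]
    show ((b : R) : K) / ((c : R) : K) = _
    rw [div_eq_mul_inv, inv_eq_of_mul_eq_one_right (show (c : K) * (c' : K) = 1 from congrArg Subtype.val hc')]
  exact ⟨⟨_, hR i (b * c').2⟩, Subtype.ext (by
    show (a : K) * ((b * c' : R) : K) = 1
    rw [← hinv, mul_inv_cancel₀ fun h => ha (Subtype.ext h)])⟩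

include S hmem in
theorem Sep.finite_maximalSpectrum [Nonempty ι] (hdim : ∀ i, ringKrullDim (A i) = 1)
    (hsl : ∀ i, Finite (MaximalSpectrum (A i))) : Finite (MaximalSpectrum R) := by
  have hex : ∀ m : MaximalSpectrum R, ∃ (i : ι) (M : MaximalSpectrum (A i)),
      m.asIdeal = M.asIdeal.comap (Subring.inclusion (hR i)) := fun m => by
    obtain ⟨i, hi⟩ := S.exists_notMem hmem m.asIdeal m.isMaximal.ne_top
    obtain ⟨Q, hQ⟩ := (Set.ext_iff.mp (S.range_eq hmem hdim i) ⟨m.asIdeal, m.isMaximal.isPrime⟩).mpr hi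
    have hQ' : Q.asIdeal.comap (Subring.inclusion (hR i)) = m.asIdeal := congrArg PrimeSpectrum.asIdeal hQ
    obtain ⟨M, hM, hQM⟩ := Ideal.exists_le_maximal Q.asIdeal Q.isPrime.ne_top
    refine ⟨i, ⟨M, hM⟩, ?_⟩
    refine m.isMaximal.eq_of_le (Ideal.IsPrime.ne_top (Ideal.comap_isPrime _ _)) ?_
    rw [← hQ']
    exact Ideal.comap_mono hQM
  choose i M hM using hex
  exact Finite.of_injective (fun m => (⟨i m, M m⟩ : Σ i, MaximalSpectrum (A i))) fun m m' h => by
    apply MaximalSpectrum.ext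
    rw [hM m, hM m']
    exact congrArg (fun w : Σ i, MaximalSpectrum (A i) => w.2.asIdeal.comap (Subring.inclusion (hR w.1))) h

include S hmem in
theorem Sep.existsUnique [Nonempty ι] (hdim : ∀ i, ringKrullDim (A i) = 1) (m : PrimeSpectrum R)
    (hm : m.asIdeal.IsMaximal) :
    ∃! i, m ∈ Set.range (Spec.map (CommRingCat.ofHom (Subring.inclusion (hR i)))).base := by
  obtain ⟨i, hi⟩ := S.exists_notMem hmem m.asIdeal m.isPrime.ne_top
  refine ⟨i, (Set.ext_iff.mp (S.range_eq hmem hdim i) m).mpr hi, fun j hj => ?_⟩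
  by_contra hne
  obtain ⟨Q, hQ⟩ := hj
  have hQ' : Q.asIdeal.comap (Subring.inclusion (hR j)) = m.asIdeal := congrArg PrimeSpectrum.asIdeal hQ
  obtain ⟨M, hM, hQM⟩ := Ideal.exists_le_maximal Q.asIdeal Q.isPrime.ne_top
  have h1 : m.asIdeal = M.comap (Subring.inclusion (hR j)) :=
    hm.eq_of_le (Ideal.IsPrime.ne_top (Ideal.comap_isPrime _ _)) (hQ' ▸ Ideal.comap_mono hQM)
  apply hi
  rw [h1, Ideal.mem_comap]
  exact Ideal.mem_sInf.mp (S.mem_jac i j hne) ⟨bot_le, hM⟩

end Family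

theorem exists_sep_family {r : ℕ} (A : Fin r → Subring K) [∀ i, IsNoetherianRing (A i)]
    [∀ i, IsFractionRing (A i) K] (hdim : ∀ i, ringKrullDim (A i) = 1)
    (hsl : ∀ i, Finite (MaximalSpectrum (A i))) (hgen : ∀ i j, i ≠ j → A i ⊔ A j = ⊤)
    (R : Subring K) (hR : ∀ i, R ≤ A i) (hmem : ∀ x : K, (∀ i, x ∈ A i) → x ∈ R) :
    Nonempty (Sep hR) := by
  classical
  have h : ∀ i, ∃ a : R, IsUnit (Subring.inclusion (hR i) a) ∧
      ∀ j, j ≠ i → Subring.inclusion (hR j) a ∈ (⊥ : Ideal (A j)).jacobson := fun i => by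
    let e := Fintype.equivFin {j : Fin r // j ≠ i}
    obtain ⟨a, ⟨ha, hau⟩, haJ⟩ := exists_sep (A i) (fun t => A (e.symm t).1) (hdim i) (hsl i)
      (fun t => hdim _) (fun t => hsl _) (fun t => hgen i _ (e.symm t).2.symm)
    have haR : a ∈ R := hmem a fun j => by
      by_cases hj : j = i
      · subst hj; exact ha
      · obtain ⟨h, -⟩ := haJ (e ⟨j, hj⟩)
        simpa using h
    refine ⟨⟨a, haR⟩, hau, fun j hj => ?_⟩
    obtain ⟨t, ht⟩ : ∃ t, (e.symm t).1 = j := ⟨e ⟨j, hj⟩, by simp⟩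
    subst ht
    exact (haJ t).2
  choose a ha haJ using h
  exact ⟨⟨a, ha, fun i j hj => haJ i j hj⟩⟩

end Groth.Agent.GlueSL
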