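import Groth.Agent.GlueSL.Glue
import Groth.Agent.DvrDom.Basic

/-!
# Gluing two semi-local one-dimensional subrings; the criterion `A B = K`
-/

set_option autoImplicit false

universe u

open IsDedekindDomain AlgebraicGeometry CategoryTheory

namespace Groth.Agent.GlueSL

variable {K : Type u} [Field K]

theorem glue_two (A B : Subring K) [IsFractionRing A K] [IsFractionRing B K] [IsNoetherianRing A]
    [IsNoetherianRing B] (hdimA : ringKrullDim A = 1) (hdimB : ringKrullDim B = 1)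
    (hslA : Finite (MaximalSpectrum A)) (hslB : Finite (MaximalSpectrum B)) (hgen : A ⊔ B = ⊤)
    (R : Subring K) (hR : R = A ⊓ B) (h₁ : R ≤ A) (h₂ : R ≤ B) :
    IsOpenImmersion (Spec.map (CommRingCat.ofHom (Subring.inclusion h₁))) ∧
      IsOpenImmersion (Spec.map (CommRingCat.ofHom (Subring.inclusion h₂))) ∧
      Set.range (Spec.map (CommRingCat.ofHom (Subring.inclusion h₁))).base ∪
        Set.range (Spec.map (CommRingCat.ofHom (Subring.inclusion h₂))).base = Set.univ ∧
      IsPushout (CommRingCat.ofHom (Subring.inclusion h₁)) (CommRingCat.ofHom (Subring.inclusion h₂))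
        (CommRingCat.ofHom A.subtype) (CommRingCat.ofHom B.subtype) := by
  let F : Fin 2 → Subring K := ![A, B]
  have : ∀ i, IsNoetherianRing (F i) := Fin.forall_fin_two.mpr ⟨‹IsNoetherianRing A›, ‹IsNoetherianRing B›⟩
  have : ∀ i, IsFractionRing (F i) K := Fin.forall_fin_two.mpr ⟨‹IsFractionRing A K›, ‹IsFractionRing B K›⟩
  have hF : ∀ i, R ≤ F i := Fin.forall_fin_two.mpr ⟨h₁, h₂⟩
  have hdim : ∀ i, ringKrullDim (F i) = 1 := Fin.forall_fin_two.mpr ⟨hdimA, hdimB⟩
  have hmem : ∀ x : K, (∀ i, x ∈ F i) → x ∈ R := fun x hx => hR ▸ ⟨hx 0, hx 1⟩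
  obtain ⟨S⟩ := exists_sep_family F hdim (Fin.forall_fin_two.mpr ⟨hslA, hslB⟩)
    (Fin.forall_fin_two.mpr ⟨Fin.forall_fin_two.mpr ⟨fun h => absurd rfl h, fun _ => hgen⟩,
      Fin.forall_fin_two.mpr ⟨fun _ => sup_comm A B ▸ hgen, fun h => absurd rfl h⟩⟩) R hF hmem
  refine ⟨S.isOpenImmersion hmem hdim 0, S.isOpenImmersion hmem hdim 1, ?_, ?_⟩
  · refine Set.eq_univ_of_forall fun P => ?_
    obtain ⟨i, hi⟩ := S.exists_notMem hmem P.asIdeal P.isPrime.ne_top
    have hP := (Set.ext_iff.mp (S.range_eq hmem hdim i) P).mpr hi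
    fin_cases i
    · exact Or.inl hP
    · exact Or.inr hP
  · let := (Subring.inclusion h₁).toAlgebra
    have hA : IsLocalization.Away (S.elt 0) A := S.isLocalization hmem hdim 0
    have hBK : IsLocalization ((Submonoid.powers (S.elt 0)).map (Subring.inclusion h₂ : R →+* B)) K := by
      rw [Submonoid.map_powers]
      have hb : Subring.inclusion h₂ (S.elt 0) ∈ (⊥ : Ideal B).jacobson := S.mem_jac 0 1 (by decide)
      have hb0 : Subring.inclusion h₂ (S.elt 0) ≠ 0 := fun h => (S.isUnit 0).ne_zero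
        (Subtype.ext (congrArg (fun w : B => (w : K)) h :))
      have : Ring.KrullDimLE 1 B := Ring.krullDimLE_iff.mpr hdimB.le
      refine ⟨fun y => ?_, fun z => ?_, fun {a b} h => ⟨1, ?_⟩⟩
      · obtain ⟨n, hn⟩ := y.2
        simp only at hn
        rw [← hn, map_pow]
        refine ((isUnit_iff_ne_zero.mpr fun h => hb0 (Subtype.ext h))).pow n
      · obtain ⟨n₀, hn₀⟩ := exists_pow_mul_mem_range hb0 hb z
        obtain ⟨b, hb⟩ := hn₀ n₀ le_rfl
        refine ⟨⟨b, ⟨_, n₀, rfl⟩⟩, ?_⟩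
        show z * algebraMap B K (Subring.inclusion h₂ (S.elt 0) ^ n₀) = algebraMap B K b
        rw [map_pow, hb, mul_comm]
      · exact congrArg _ (IsFractionRing.injective B K h)
    have h := @CommRingCat.isPushout_of_isLocalization R B A K _ _ _ _ _ _ (Subring.inclusion h₂) A.subtype
      rfl (Submonoid.powers (S.elt 0)) hA hBK
    exact h.flip

theorem sup_eq_top_of_exists_notMem (A : Subring K) (B : ValuationSubring K) [IsDiscreteValuationRing B]
    {u : K} (hu : u ∈ A) (huB : u ∉ B) : A ⊔ B.toSubring = ⊤ := by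
  have : IsFractionRing B K := inferInstance
  have hinv : u⁻¹ ∈ B := (B.mem_or_inv_mem u).resolve_left huB
  have hc0 : (⟨u⁻¹, hinv⟩ : B) ≠ 0 := fun h => huB (by
    have := congrArg Subtype.val h
    rw [inv_eq_zero.mp this]
    exact zero_mem _)
  have hcJ : (⟨u⁻¹, hinv⟩ : B) ∈ (⊥ : Ideal B).jacobson := by
    rw [IsLocalRing.jacobson_eq_maximalIdeal ⊥ bot_ne_top, IsLocalRing.mem_maximalIdeal]
    intro hU
    obtain ⟨w, hw⟩ := hU.exists_right_inv
    have h1 : u⁻¹ * (w : K) = 1 := congrArg Subtype.val hw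
    refine huB ?_
    have h2 : (w : K) = u := by
      have := eq_inv_of_mul_eq_one_right h1
      rwa [inv_inv] at this
    exact h2 ▸ w.2
  rw [eq_top_iff]
  intro z _
  obtain ⟨n₀, hn₀⟩ := exists_pow_mul_mem_range hc0 hcJ z
  obtain ⟨b, hb⟩ := hn₀ n₀ le_rfl
  have hb' : (b : K) = u⁻¹ ^ n₀ * z := hb
  have hu0 : u ≠ 0 := fun h => huB (h ▸ zero_mem _)
  have : z = u ^ n₀ * (b : K) := by rw [hb', ← mul_assoc, ← mul_pow, mul_inv_cancel₀ hu0, one_pow, one_mul]
  rw [this]
  exact mul_mem ((le_sup_left : A ≤ A ⊔ B.toSubring) (pow_mem hu n₀))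
    ((le_sup_right : B.toSubring ≤ A ⊔ B.toSubring) b.2)

theorem valuationSubring_ne_top (O : ValuationSubring K) [IsDiscreteValuationRing O] :
    O.toSubring ≠ ⊤ := fun h => by
  obtain ⟨x, hx⟩ := IsDiscreteValuationRing.exists_irreducible O
  have hx0 : (x : K) ≠ 0 := fun h0 => hx.ne_zero (Subtype.ext h0)
  have hinv : (x : K)⁻¹ ∈ O.toSubring := h ▸ Subring.mem_top _
  exact hx.not_isUnit (IsUnit.of_mul_eq_one ⟨_, hinv⟩ (Subtype.ext (mul_inv_cancel₀ hx0)))

theorem exists_dvr_of_sup_ne_top (A : Subring K) [IsFractionRing A K] (B : Subring K)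
    [IsNoetherianRing A] (hdim : ringKrullDim A = 1) (h : A ⊔ B ≠ ⊤) :
    ∃ O : ValuationSubring K, IsDiscreteValuationRing O ∧ A ≤ O.toSubring ∧ B ≤ O.toSubring := by
  have : Ring.KrullDimLE 1 A := Ring.krullDimLE_iff.mpr hdim.le
  let C : Subalgebra A K :=
    { (A ⊔ B) with algebraMap_mem' := fun a => (le_sup_left : A ≤ A ⊔ B) a.2 }
  have : IsNoetherianRing C := DvrDom.isNoetherianRing_subalgebra C
  have hmemC : ∀ {z : K}, z ∈ A ⊔ B → z ∈ C := fun hz => hz
  have : IsFractionRing C K := IsFractionRing.of_field C K fun z => by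
    obtain ⟨x, y, hy, rfl⟩ := IsFractionRing.div_surjective (A := A) z
    exact ⟨algebraMap A C x, algebraMap A C y, rfl⟩
  have hC : ¬ IsField C := fun hF => h (eq_top_iff.mpr fun z _ => by
    obtain ⟨x, y, hy, rfl⟩ := IsFractionRing.div_surjective (A := C) z
    obtain ⟨y', hy'⟩ := hF.mul_inv_cancel (nonZeroDivisors.ne_zero hy)
    have : algebraMap C K x / algebraMap C K y = ((x * y' : C) : K) := by
      rw [div_eq_mul_inv, inv_eq_of_mul_eq_one_right
        (show algebraMap C K y * (y' : K) = 1 from congrArg Subtype.val hy')]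
      rfl
    rw [this]
    exact (x * y').2)
  obtain ⟨m, hm0, hm⟩ := Ring.not_isField_iff_exists_prime.mp hC
  let Cm := Localization.subalgebra.ofField K m.primeCompl (m.primeCompl_le_nonZeroDivisors)
  have : IsLocalization.AtPrime Cm m := Localization.subalgebra.isLocalization_ofField K _ _
  have : IsLocalRing Cm := IsLocalization.AtPrime.isLocalRing Cm m
  have : IsNoetherianRing Cm := IsLocalization.isNoetherianRing m.primeCompl Cm inferInstance
  have hCm : ¬ IsField Cm := fun hF => by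
    have h1 := IsLocalRing.isField_iff_maximalIdeal_eq.mp hF
    refine hm0 ?_
    rw [← IsLocalization.AtPrime.under_maximalIdeal Cm m, h1, Ideal.under_def]
    exact Ideal.comap_bot_of_injective _
      (IsLocalization.injective Cm m.primeCompl_le_nonZeroDivisors)
  obtain ⟨O, hO, hmem, -⟩ := DvrDom.exists_dvr_dominating Cm hCm K
  have hCO : ∀ z : K, z ∈ A ⊔ B → z ∈ O := fun z hz => hmem (algebraMap C Cm ⟨z, hz⟩)
  exact ⟨O, hO, fun a ha => hCO a ((le_sup_left : A ≤ A ⊔ B) ha),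
    fun b hb => hCO b ((le_sup_right : B ≤ A ⊔ B) hb)⟩

theorem le_and_isMaximal_comap (A : Subring K) [IsFractionRing A K] [IsNoetherianRing A]
    (hdim : ringKrullDim A = 1) (hsl : Finite (MaximalSpectrum A)) (B : ValuationSubring K)
    [IsDiscreteValuationRing B] (hunits : ∀ u : A, IsUnit u → (u : K) ∈ B) :
    ∃ h : A ≤ B.toSubring,
      (Ideal.comap (Subring.inclusion h) (IsLocalRing.maximalIdeal B)).IsMaximal := by
  obtain ⟨y, hy, hyJ⟩ := exists_mem_jacobson' A hdim hsl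
  have hay : ∀ a : A, ((a * y : A) : K) ∈ B := fun a => by
    have h := Ideal.mem_jacobson_bot.mp hyJ a
    have h2 := hunits _ h
    rw [mul_comm y] at h2
    have : ((a * y : A) : K) = ((a * y + 1 : A) : K) - 1 := by
      rw [Subring.coe_add, OneMemClass.coe_one, add_sub_cancel_right]
    rw [this]
    exact sub_mem h2 (one_mem _)
  have hAB : A ≤ B.toSubring := fun a ha => by
    by_contra hab
    have hinv : a⁻¹ ∈ B := (B.mem_or_inv_mem a).resolve_left hab
    have hy0 : (y : K) ≠ 0 := fun h => hy (Subtype.ext h)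
    have ha0 : a ≠ 0 := fun h => hab (h ▸ zero_mem _)
    have hc : (⟨a⁻¹, hinv⟩ : B) ∈ (⊥ : Ideal B).jacobson := by
      rw [IsLocalRing.jacobson_eq_maximalIdeal ⊥ bot_ne_top, IsLocalRing.mem_maximalIdeal]
      intro hU
      obtain ⟨w, hw⟩ := hU.exists_right_inv
      have h2 : (w : K) = a := by
        have := eq_inv_of_mul_eq_one_right (congrArg Subtype.val hw : a⁻¹ * (w : K) = 1)
        rwa [inv_inv] at this
      exact hab (h2 ▸ w.2)
    obtain ⟨n₀, hn₀⟩ := exists_pow_mul_mem_range (fun h => ha0 (inv_eq_zero.mp (congrArg Subtype.val h)))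
      hc (y : K)⁻¹
    obtain ⟨b, hb⟩ := hn₀ n₀ le_rfl
    have hb' : (b : K) = a⁻¹ ^ n₀ * (y : K)⁻¹ := hb
    apply hab
    have h3 := B.toSubring.mul_mem b.2 (hay (⟨a, ha⟩ ^ (n₀ + 1)))
    have h4 : (b : K) * (((⟨a, ha⟩ : A) ^ (n₀ + 1) * y : A) : K) = a := by
      rw [hb', Subring.coe_mul, SubmonoidClass.coe_pow, pow_succ]
      calc a⁻¹ ^ n₀ * (y : K)⁻¹ * (a ^ n₀ * a * (y : K))
          = (a⁻¹ * a) ^ n₀ * ((y : K)⁻¹ * y) * a := by ring
        _ = a := by rw [inv_mul_cancel₀ ha0, inv_mul_cancel₀ hy0, one_pow, one_mul, one_mul]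
    rwa [h4] at h3
  refine ⟨hAB, ?_⟩
  have : Ring.KrullDimLE 1 A := Ring.krullDimLE_iff.mpr hdim.le
  refine Ideal.IsPrime.isMaximal_of_ne_bot (Ideal.comap_isPrime _ _) fun h => ?_
  have hu : ∀ a : A, a ≠ 0 → IsUnit (Subring.inclusion hAB a) := fun a ha => by
    by_contra hu
    have hm : a ∈ Ideal.comap (Subring.inclusion hAB) (IsLocalRing.maximalIdeal B) :=
      (IsLocalRing.mem_maximalIdeal _).mpr hu
    rw [h] at hm
    exact ha ((Submodule.mem_bot _).mp hm)
  apply valuationSubring_ne_top B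
  refine eq_top_iff.mpr fun z _ => ?_
  obtain ⟨p, q, hq, rfl⟩ := IsFractionRing.div_surjective (A := A) z
  obtain ⟨w, hw⟩ := (hu q (nonZeroDivisors.ne_zero hq)).exists_right_inv
  show (p : K) / (q : K) ∈ B
  rw [div_eq_mul_inv, inv_eq_of_mul_eq_one_right (show (q : K) * (w : K) = 1 from congrArg Subtype.val hw)]
  exact mul_mem (hAB p.2) w.2

end Groth.Agent.GlueSL
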